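import Cfsg.Agent.Lib.ClosedCentral.Simple
import Cfsg.Agent.Lib.S3Simple.Classification
import Cfsg.Agent.Lib.S3Simple.CompK
import Cfsg.Agent.Lib.Walter.Field
import Cfsg.Agent.Lib.Comp.PTerminal
import Cfsg.Agent.S2796
import Cfsg.Agent.S1644
import Cfsg.Agent.S0252
import Cfsg.Agent.S0253
import Cfsg.Prelude.Def_LocalEven
import Cfsg.Prelude.Def_Spor_J1

/-!
A non-abelian simple group without a section `S₄` is a Goldschmidt group, given the theorem on strongly closed
abelian 2-subgroups: the closed subgroup of S2796 gives an abelian Sylow 2-subgroup or a strongly embedded subgroup.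
-/

set_option autoImplicit false
set_option linter.unusedSectionVars false
set_option linter.style.haveILetI false

namespace CfsgLib.GoldschmidtS4

open Cfsg Subgroup

universe u

local notation "PSL₂[" F "]" => Matrix.ProjectiveSpecialLinearGroup (Fin 2) F

variable {G : Type u} [Group G] [Finite G]

theorem psl_center {F : Type} [Field F] [Fintype F] (h2 : (2 : F) ≠ 0) (h4 : 4 ≤ Fintype.card F) :
    center PSL₂[F] = ⊥ := by
  haveI : IsSimpleGroup PSL₂[F] :=
    Matrix.ProjectiveSpecialLinearGroup.rank_two_simple (by rwa [Nat.card_eq_fintype_card])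
  refine ((inferInstance : (center PSL₂[F]).Normal).eq_bot_or_eq_top).resolve_right fun h => ?_
  obtain ⟨g, b, c, hA, -⟩ := CfsgLib.Walter.exists_fixed_A4 (F := F) h2
  have := mem_center_iff.mp (h ▸ mem_top b : b ∈ center _) g
  exact hA.bc (by rw [← hA.gb, this, mul_inv_cancel_right])

/-- A centraliser `2 × PSL₂(q)` is an internal direct product with `⟨t⟩`. -/
theorem exists_product {t : G} (ht : orderOf t = 2) {F : Type} [Field F] [Fintype F] (h2 : (2 : F) ≠ 0)
    (h4 : 4 ≤ Fintype.card F) (e : centralizer ({t} : Set G) ≃* Multiplicative (ZMod 2) × PSL₂[F]) :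
    ∃ K : Subgroup G, IsInternalDirectProduct (zpowers t) K (centralizer ({t} : Set G)) ∧
      Nonempty (K ≃* PSL₂[F]) := by
  set C := centralizer ({t} : Set G)
  let f : PSL₂[F] →* G := C.subtype.comp (e.symm.toMonoidHom.comp (MonoidHom.inr _ _))
  have hfi : Function.Injective f := fun a b h => (Prod.ext_iff.mp (e.symm.injective (Subtype.ext h))).2
  have htC : t ∈ C := mem_centralizer_singleton_iff.mpr rfl
  have ht2 : (e ⟨t, htC⟩).2 = 1 := by
    rw [← mem_bot, ← psl_center h2 h4, mem_center_iff]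
    intro x
    have hc : e.symm (1, x) * (⟨t, htC⟩ : C) = ⟨t, htC⟩ * e.symm (1, x) :=
      Subtype.ext (mem_centralizer_singleton_iff.mp (e.symm (1, x)).2)
    simpa using congrArg (fun w => (e w).2) hc
  have ht1 : (e ⟨t, htC⟩).1 ≠ 1 := fun h => by
    have h1 : t = 1 := congrArg Subtype.val (e.map_eq_one_iff.mp (Prod.ext h ht2))
    rw [h1, orderOf_one] at ht
    omega
  refine ⟨f.range, ⟨zpowers_le.mpr htC, ?_, ?_, ?_, ?_⟩, ⟨(MonoidHom.ofInjective hfi).symm⟩⟩
  · rintro _ ⟨x, rfl⟩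
    exact (e.symm (1, x)).2
  · rintro a ha _ ⟨x, rfl⟩
    obtain ⟨k, rfl⟩ := mem_zpowers_iff.mp ha
    exact ((show Commute t (f x) from (mem_centralizer_singleton_iff.mp (e.symm (1, x)).2).symm).zpow_left k).eq
  · refine (eq_bot_iff_forall _).mpr ?_
    rintro a ⟨ha, x, hx⟩
    rcases (E8Solv.mem_zpowers_invol ht).mp ha with h | h
    · exact h
    · have h1 : e.symm (1, x) = ⟨t, htC⟩ := Subtype.ext (hx.trans h)
      exact absurd (by rw [← h1]; simp) ht1
  · refine le_antisymm (sup_le (zpowers_le.mpr htC) ?_) fun c hc => ?_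
    · rintro _ ⟨x, rfl⟩
      exact (e.symm (1, x)).2
    have hmem : (e.symm (1, (e ⟨c, hc⟩).2) : G) ∈ zpowers t ⊔ f.range := mem_sup_right ⟨_, rfl⟩
    by_cases h : (e ⟨c, hc⟩).1 = 1
    · rwa [show e.symm (1, (e ⟨c, hc⟩).2) = ⟨c, hc⟩ from e.symm_apply_eq.mpr (Prod.ext h.symm rfl)] at hmem
    · have h1 : (e ⟨c, hc⟩).1 = (e ⟨t, htC⟩).1 := by
        revert h ht1
        generalize (e ⟨c, hc⟩).1 = a
        generalize (e ⟨t, htC⟩).1 = b
        revert a b
        decide
      have e1 : (⟨t, htC⟩ : C) * e.symm (1, (e ⟨c, hc⟩).2) = ⟨c, hc⟩ := e.injective (by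
        rw [map_mul, e.apply_symm_apply]
        exact Prod.ext ((mul_one _).trans h1.symm) (by rw [Prod.snd_mul, ht2, one_mul]))
      rw [← show t * (e.symm (1, (e ⟨c, hc⟩).2) : G) = c from congrArg Subtype.val e1]
      exact mul_mem (mem_sup_left (mem_zpowers t)) hmem

/-- `PSL₂(4) ≅ PSL₂(5)` is on the list. -/
theorem goldschmidt_psl_two {F : Type} [Field F] [Fintype F] {n : ℕ} (hn : 2 ≤ n) (hF : Fintype.card F = 2 ^ n)
    (e : G ≃* PSL₂[F]) : IsGoldschmidtGroup G := by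
  rcases hn.eq_or_lt with rfl | h3
  · haveI : Fact (Nat.Prime 5) := ⟨by norm_num⟩
    obtain ⟨e4⟩ := Cfsg.Agent.S0252.result (F := F) (by rw [hF]; norm_num)
    obtain ⟨e5⟩ := Cfsg.Agent.S0253.result (F := ZMod 5) (ZMod.card 5)
    exact Or.inr (Or.inr (Or.inr (Or.inr (Or.inl ⟨ZMod 5, inferInstance, inferInstance, 5, ZMod.card 5, le_rfl,
      Or.inr (by norm_num), ⟨e.trans (e4.trans e5.symm)⟩⟩))))
  · exact Or.inr (Or.inl ⟨F, inferInstance, inferInstance, n, h3, hF, ⟨e⟩⟩)

/-- The list of simple groups with abelian Sylow 2-subgroups consists of Goldschmidt groups. -/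
theorem goldschmidt_of_listed [IsSimpleGroup G] (hna : ¬ IsMulCommutative G)
    (hab : ∀ P : Sylow 2 G, IsMulCommutative (P : Subgroup G)) (hl : WalterAb.Listed G) : IsGoldschmidtGroup G := by
  haveI : Fact (Nat.Prime 2) := ⟨Nat.prime_two⟩
  rcases hl with ⟨F, i1, i2, ⟨hq, h5⟩ | ⟨n, hn, hF⟩, ⟨e⟩⟩ | hJ
  · exact Or.inr (Or.inr (Or.inr (Or.inr (Or.inl ⟨F, i1, i2, _, rfl, h5, hq, ⟨e⟩⟩))))
  · exact goldschmidt_psl_two hn hF e
  obtain ⟨T⟩ : Nonempty (Sylow 2 G) := inferInstance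
  obtain ⟨t, htT, ht1⟩ : ∃ t ∈ (T : Subgroup G), t ≠ 1 :=
    (bot_or_exists_ne_one _).resolve_left fun e => by
      have := (hJ.1 T).1; rw [e, card_bot] at this; omega
  have ht : orderOf t = 2 := orderOf_eq_prime (by rw [pow_two]; exact (hJ.1 T).2 t htT) ht1
  obtain ⟨F, i1, i2, hF, ⟨e⟩⟩ := hJ.2 t ht
  rcases hF with h5 | ⟨m, hm, hF⟩
  · obtain ⟨e5⟩ := Cfsg.Agent.S0253.result (F := F) h5
    exact Or.inr (Or.inr (Or.inr (Or.inr (Or.inr
      (Cfsg.Agent.S1644.result T (hab T) (hJ.1 T).1 t ht (e.trans (MulEquiv.prodCongr (MulEquiv.refl _) e5)))))))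
  refine Or.inl ⟨inferInstance, hna, t, ?_⟩
  haveI : Fact (Nat.Prime 3) := ⟨Nat.prime_three⟩
  haveI : CharP F 3 := charP_of_card_eq_prime_pow hF
  have h2 : (2 : F) ≠ 0 := fun h => by
    have h' : ((2 : ℕ) : F) = 0 := by exact_mod_cast h
    rw [CharP.cast_eq_zero_iff F 3] at h'
    norm_num at h'
  have h4 : 4 ≤ Fintype.card F := by
    rw [hF]
    calc 4 ≤ 3 ^ 3 := by norm_num
      _ ≤ 3 ^ (2 * m + 1) := Nat.pow_le_pow_right (by norm_num) (by omega)
  obtain ⟨K, hK, eK⟩ := exists_product ht h2 h4 e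
  refine ⟨K, m, hm, ht, ?_, hK, F, i1, i2, hF, eK⟩
  refine Odd.of_dvd_nat (Nat.odd_iff.mpr (Nat.two_dvd_ne_zero.mp T.not_dvd_index))
    (index_dvd_of_le fun x hx => mem_centralizer_singleton_iff.mpr ?_)
  exact congrArg Subtype.val ((hab T).1.comm ⟨x, hx⟩ ⟨t, htT⟩)

/-- A group with a strongly embedded subgroup on Bender's list is a Goldschmidt group. -/
theorem goldschmidt_of_bender (h : CfsgLib.Bender.IsBenderGroup G) : IsGoldschmidtGroup G := by
  rcases h with ⟨F, i1, i2, ⟨n, hn, hF⟩, ⟨e⟩⟩ | hs | ⟨F, i1, i2, n, hn, hF, e⟩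
  · exact goldschmidt_psl_two hn hF e
  · exact Or.inr (Or.inr (Or.inl hs))
  · refine Or.inr (Or.inr (Or.inr (Or.inl ⟨F, i1, i2, n, hn, ?_, e⟩)))
    rw [hF, show (4 : ℕ) = 2 ^ 2 from rfl, ← pow_mul, ← pow_mul, mul_comm]

/-- A non-abelian simple group without a section `S₄` is a Goldschmidt group. -/
theorem main (hG : ClosedCentral.Gold.{u}) [IsSimpleGroup G] (hna : ¬ IsMulCommutative G)
    (hfree : ¬ Involves (Equiv.Perm (Fin 4)) G) : IsGoldschmidtGroup G := by
  haveI : Fact (Nat.Prime 2) := ⟨Nat.prime_two⟩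
  let S : Sylow 2 G := default
  have hS : (S : Subgroup G) ≠ ⊥ := fun e => by
    refine hna ?_
    have hodd : Odd (Nat.card G) := by
      have := S.not_dvd_index
      rw [e, index_bot] at this
      exact Nat.odd_iff.mpr (Nat.two_dvd_ne_zero.mp this)
    haveI : Group.IsSolvable G := Cfsg.Agent.S0205.result hodd
    exact ⟨⟨IsSimpleGroup.comm_iff_isSolvable.mpr inferInstance⟩⟩
  obtain ⟨z, hz, hz2, hzc⟩ := Comp.exists_central_in_normal S.2 le_rfl le_normalizer hS
  set N := normalizer (thompsonSubgroupOf 2 (S : Subgroup G) : Set G) with hN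
  set Z := omegaOne 2 ((S : Subgroup G) ⊓ centralizer ((S : Subgroup G) : Set G)) with hZ
  set A := (normalClosure ((Z.subgroupOf N : Subgroup ↥N) : Set ↥N)).map N.subtype with hA
  obtain ⟨hle, hel, hcl, -⟩ := Cfsg.Agent.S2796.result hfree
    (fun K R _ hc => S3Simple.sec_of_four_free S3Simple.eightKilled S3Simple.fourKilled hfree K R hc) S N hN A hA
  have hzN : z ∈ N := by
    rw [hN]
    refine CfsgLib.Local.mem_normalizer_of_map_conj_eq ?_
    rw [← CfsgLib.JComp.thompsonOf_map _ (MulAut.conj z).injective,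
      CfsgLib.Local.map_conj_eq_of_mem_normalizer (le_normalizer hz)]
  have hzA : z ∈ A := by
    refine ⟨⟨z, hzN⟩, subset_normalClosure ?_, rfl⟩
    refine subset_closure ⟨⟨hz, fun s hs => hzc s hs⟩, ?_⟩
    rw [← hz2]; exact pow_orderOf_eq_one z
  have hA1 : A ≠ ⊥ := fun e => by
    have hz1 : z = 1 := mem_bot.mp (by rw [← e]; exact hzA)
    rw [hz1, orderOf_one] at hz2
    omega
  rcases hG G inferInstance S A hA1 hel.1 hcl with hab | ⟨H, hH⟩
  · have habs : ∀ Q : Sylow 2 G, IsMulCommutative (Q : Subgroup G) := fun Q => by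
      exact ⟨⟨fun x y => (Sylow.equiv S Q).symm.injective (by rw [map_mul, map_mul]; exact hab.1.comm _ _)⟩⟩
    exact goldschmidt_of_listed hna habs
      (WalterAb.listed_of_P (fun Y _ _ => CfsgLib.Walter.p_all Y) G inferInstance hna habs)
  · exact goldschmidt_of_bender (CfsgLib.Bender.isBenderGroup_of_stronglyEmbedded
      (CfsgLib.Bender.Assembly.benderHyp.{u} CfsgLib.Bender.Assembly.goodAll)
      CfsgLib.Bender.Assembly.suzukiHyp hH)

end CfsgLib.GoldschmidtS4
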